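import Mathlib
import Groth.Agent.H05EGA4.CompleteNormalization

/-!
# Normalised cyclic covers branched along a regular divisor

For `T ^ N = u F ^ α` in a ring `K` (with `F` the image of `f` and inverted), the monomials
`T ^ i F ^ (-⌊i α / N⌋)` span a regular ring when the divisor of `f` is regular and `N` is invertible.
-/

set_option maxHeartbeats 400000
set_option synthInstance.maxHeartbeats 100000
universe u
open Polynomial IsLocalRing

namespace Groth.Agent.H29Vanish

/-- In a local algebra over a field, the subalgebra generated by a root of a squarefree polynomial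
is a field. -/
theorem exists_mul_aeval_eq_one {k L : Type*} [Field k] [CommRing L] [Algebra k L] [IsLocalRing L]
    (v : L) (p : k[X]) (hp : Squarefree p) (hv : aeval v p = 0) (r : k[X]) (hr : aeval v r ≠ 0) :
    ∃ r' : k[X], aeval v r * aeval v r' = 1 := by
  have hint : IsIntegral k v := IsAlgebraic.isIntegral ⟨p, hp.ne_zero, hv⟩
  have hq0 : minpoly k v ≠ 0 := minpoly.ne_zero hint
  have hqsq : Squarefree (minpoly k v) := hp.squarefree_of_dvd (minpoly.dvd k v hv)
  have key : ∀ a b : k[X], minpoly k v = a * b → aeval v b = 0 → IsUnit a := fun a b hab hb => by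
    obtain ⟨c, hc⟩ := minpoly.dvd k v hb
    have hb0 : b ≠ 0 := by
      rintro rfl
      exact hq0 (by rw [hab, mul_zero])
    refine .of_mul_eq_one c (mul_left_cancel₀ hb0 ?_)
    conv_rhs => rw [mul_one, hc, hab]
    ring
  have hirr : Irreducible (minpoly k v) := by
    refine ⟨minpoly.not_isUnit k v, fun a b hab => ?_⟩
    obtain ⟨x, y, hxy⟩ : IsCoprime a b :=
      (IsRelPrime.of_squarefree_mul (hab ▸ hqsq)).isCoprime
    have h1 : aeval v x * aeval v a + aeval v y * aeval v b = 1 := by
      simpa using congrArg (aeval v) hxy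
    have h0 : aeval v a * aeval v b = 0 := by rw [← map_mul, ← hab, minpoly.aeval]
    rcases IsLocalRing.isUnit_or_isUnit_of_add_one h1 with h | h
    · exact .inl (key a b hab ((isUnit_of_mul_isUnit_right h).mul_right_eq_zero.mp h0))
    · exact .inr (key b a (by rw [hab, mul_comm])
        ((isUnit_of_mul_isUnit_right h).mul_left_eq_zero.mp h0))
  obtain ⟨x, y, hxy⟩ : IsCoprime (minpoly k v) r := hirr.coprime_iff_not_dvd.mpr fun ⟨c, hc⟩ =>
    hr (by rw [hc, map_mul, minpoly.aeval, zero_mul])
  refine ⟨y, ?_⟩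
  have h1 := congrArg (aeval v) hxy
  simp only [map_add, map_mul, minpoly.aeval, mul_zero, zero_add, map_one] at h1
  rw [mul_comm, h1]

/-- Criterion for an ideal `J` of `A_Q` containing the base prime to be maximal: modulo `J`, the
algebra is generated by a root `v` of `X ^ d = c` with `d` and `c` units at the base prime. -/
theorem maximalIdeal_eq_of_root {B A : Type u} [CommRing B] [CommRing A] [Algebra B A]
    (P : Ideal B) [P.IsPrime] (Q : Ideal A) [Q.IsPrime] (hQP : P = Q.comap (algebraMap B A))
    (J : Ideal (Localization.AtPrime Q)) (hJ : J ≤ maximalIdeal _)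
    (hPJ : ∀ b ∈ P, algebraMap A (Localization.AtPrime Q) (algebraMap B A b) ∈ J)
    (v : A) (c : B) (d : ℕ) (hc : c ∉ P) (hd : (d : B) ∉ P)
    (hv : algebraMap A (Localization.AtPrime Q) (v ^ d - algebraMap B A c) ∈ J)
    (hgen : ∀ a : A, ∃ (s : B) (r : B[X]), s ∉ P ∧
      algebraMap A (Localization.AtPrime Q) (algebraMap B A s * a - aeval v r) ∈ J) :
    maximalIdeal (Localization.AtPrime Q) = J := by
  refine le_antisymm ?_ hJ
  rw [← Localization.AtPrime.map_eq_maximalIdeal, Ideal.map_le_iff_le_comap]
  intro a ha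
  have : Nontrivial (Localization.AtPrime Q ⧸ J) := Ideal.Quotient.nontrivial_iff.mpr
    (ne_top_of_le_ne_top (IsLocalRing.maximalIdeal.isMaximal _).ne_top hJ)
  have : IsLocalRing (Localization.AtPrime Q ⧸ J) :=
    .of_surjective' (Ideal.Quotient.mk J) Ideal.Quotient.mk_surjective
  let π : A →+* Localization.AtPrime Q ⧸ J :=
    (Ideal.Quotient.mk J).comp (algebraMap A (Localization.AtPrime Q))
  have hπ : ∀ x : A, algebraMap A (Localization.AtPrime Q) x ∈ J ↔ π x = 0 := fun x =>
    Ideal.Quotient.eq_zero_iff_mem.symm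
  have hu : ∀ b ∉ P, IsUnit (π (algebraMap B A b)) := fun b hb =>
    (IsLocalization.map_units (Localization.AtPrime Q)
      (⟨algebraMap B A b, by rw [hQP] at hb; exact hb⟩ : Q.primeCompl)).map (Ideal.Quotient.mk J)
  let g : P.ResidueField →+* Localization.AtPrime Q ⧸ J :=
    Ideal.ResidueField.lift P (π.comp (algebraMap B A))
      (fun b hb => (hπ _).mp (hPJ b hb)) (fun b hb => hu b hb)
  let := g.toAlgebra
  have hg : ∀ b : B, algebraMap P.ResidueField (Localization.AtPrime Q ⧸ J)
      (algebraMap B P.ResidueField b) = π (algebraMap B A b) := fun b =>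
    Ideal.ResidueField.lift_algebraMap P (π.comp (algebraMap B A)) _ _ b
  have hev : ∀ r : B[X], π (aeval v r) =
      aeval (π v) (r.map (algebraMap B P.ResidueField)) := by
    intro r
    induction r using Polynomial.induction_on' with
    | add p q hp hq => simp [hp, hq]
    | monomial n b => simp [hg]
  have hne : ∀ b ∉ P, algebraMap B P.ResidueField b ≠ 0 := fun b hb h =>
    hb (Ideal.algebraMap_residueField_eq_zero.mp h)
  have hsep : (X ^ d - C (algebraMap B P.ResidueField c)).Separable :=
    separable_X_pow_sub_C _ (by simpa using hne _ hd) (hne c hc)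
  have hroot : aeval (π v) (X ^ d - C (algebraMap B P.ResidueField c)) = 0 := by
    simpa [hg] using (hπ _).mp hv
  have hr : ∀ x : A, ∃ r : P.ResidueField[X], π x = aeval (π v) r := by
    intro x
    obtain ⟨s, r, hs, hsr⟩ := hgen x
    refine ⟨C (algebraMap B P.ResidueField s)⁻¹ * r.map (algebraMap B P.ResidueField), ?_⟩
    have h := (hπ _).mp hsr
    rw [map_sub, map_mul, sub_eq_zero, hev] at h
    rw [map_mul, aeval_C, ← h, ← hg, ← mul_assoc, ← map_mul, inv_mul_cancel₀ (hne s hs), map_one,
      one_mul]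
  rw [Ideal.mem_comap, hπ]
  by_contra h0
  obtain ⟨r, hr'⟩ := hr a
  rw [hr'] at h0
  obtain ⟨r', hr''⟩ := exists_mul_aeval_eq_one _ _ hsep.squarefree hroot r h0
  rw [← hr'] at hr''
  have hun : IsUnit (π a) := .of_mul_eq_one _ hr''
  have hmem : algebraMap A (Localization.AtPrime Q) a ∈ maximalIdeal _ := by
    rw [← Localization.AtPrime.map_eq_maximalIdeal]; exact Ideal.mem_map_of_mem _ ha
  have : IsLocalHom (Ideal.Quotient.mk J) :=
    .of_surjective _ Ideal.Quotient.mk_surjective
  exact (mem_maximalIdeal _).mp hmem ((isUnit_map_iff (Ideal.Quotient.mk J) _).mp hun)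

/-- A regular system of parameters of `B_P` containing a nonzero element `f ∈ P` with `B/f`
regular. -/
theorem exists_parameters_containing {B : Type u} [CommRing B] [IsDomain B] [IsNoetherianRing B]
    (f : B) (hf : f ≠ 0)
    (hD : ∀ (P : Ideal (B ⧸ Ideal.span ({f} : Set B))) [P.IsPrime],
      IsRegularLocalRing (Localization.AtPrime P))
    (P : Ideal B) [P.IsPrime] (hfP : f ∈ P) :
    ∃ G : Set (Localization.AtPrime P), G.Finite ∧
      maximalIdeal (Localization.AtPrime P) = Ideal.span (insert (algebraMap B _ f) G) ∧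
      ((G.ncard + 1 : ℕ) : WithBot ℕ∞) ≤ ringKrullDim (Localization.AtPrime P) := by
  classical
  have hker : RingHom.ker (Ideal.Quotient.mk (Ideal.span {f})) ≤ P := by
    rw [Ideal.mk_ker, Ideal.span_le]
    simpa using hfP
  have := Ideal.map_isPrime_of_surjective (Ideal.Quotient.mk_surjective (I := Ideal.span {f})) hker
  obtain ⟨P', hP'⟩ : ∃ P' : Ideal (B ⧸ Ideal.span {f}), P' = P.map (Ideal.Quotient.mk _) := ⟨_, rfl⟩
  have : P'.IsPrime := hP' ▸ this
  have hcomap : P = P'.comap (Ideal.Quotient.mk (Ideal.span {f})) := by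
    rw [hP', Ideal.comap_map_of_surjective _ Ideal.Quotient.mk_surjective,
      ← RingHom.ker_eq_comap_bot, sup_eq_left.mpr hker]
  let ψ : Localization.AtPrime P →+* Localization.AtPrime P' :=
    Localization.localRingHom P P' (Ideal.Quotient.mk _) hcomap
  have hψ : ∀ b : B, ψ (algebraMap B _ b) = algebraMap _ _ (Ideal.Quotient.mk (Ideal.span {f}) b) :=
    fun b => Localization.localRingHom_to_map _ _ _ _ b
  have hsurj : Function.Surjective ψ := by
    intro y
    obtain ⟨y₁, y₂, rfl⟩ := IsLocalization.exists_mk'_eq P'.primeCompl y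
    obtain ⟨b₁, rfl⟩ := Ideal.Quotient.mk_surjective y₁
    obtain ⟨y₂, hy₂⟩ := y₂
    obtain ⟨b₂, rfl⟩ := Ideal.Quotient.mk_surjective y₂
    refine ⟨IsLocalization.mk' _ b₁
      (⟨b₂, fun h => hy₂ (hP' ▸ Ideal.mem_map_of_mem _ h)⟩ : P.primeCompl), ?_⟩
    exact Localization.localRingHom_mk' _ _ _ _ _ _
  have hkerψ : RingHom.ker ψ = Ideal.span {algebraMap B _ f} := by
    refine le_antisymm (fun x hx => ?_) ?_
    · obtain ⟨b, s, rfl⟩ := IsLocalization.exists_mk'_eq P.primeCompl x
      rw [RingHom.mem_ker, Localization.localRingHom_mk', IsLocalization.mk'_eq_zero_iff] at hx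
      obtain ⟨⟨m, hm⟩, hm'⟩ := hx
      obtain ⟨m', rfl⟩ := Ideal.Quotient.mk_surjective m
      have hm'P : m' ∉ P := fun h => hm (hP' ▸ Ideal.mem_map_of_mem _ h)
      rw [← map_mul, Ideal.Quotient.eq_zero_iff_mem, Ideal.mem_span_singleton] at hm'
      obtain ⟨e, he⟩ := hm'
      rw [Ideal.mem_span_singleton]
      refine ⟨IsLocalization.mk' _ e (⟨m', hm'P⟩ * s), ?_⟩
      rw [IsLocalization.mul_mk'_eq_mk'_of_mul, IsLocalization.mk'_eq_iff_eq]
      show algebraMap B _ ((m' * (s : B)) * b) = algebraMap B _ ((s : B) * (f * e))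
      rw [← he]
      congr 1
      ring
    · rw [Ideal.span_le, Set.singleton_subset_iff, SetLike.mem_coe, RingHom.mem_ker, hψ,
        Ideal.Quotient.eq_zero_iff_mem.mpr (Ideal.mem_span_singleton_self f), map_zero]
  have := hD P'
  obtain ⟨s, hscard, hs⟩ : ∃ s : Finset (Localization.AtPrime P'),
      s.card = (maximalIdeal (Localization.AtPrime P')).spanFinrank ∧
        Ideal.span (s : Set (Localization.AtPrime P')) = maximalIdeal _ :=
    Submodule.FG.exists_span_finset_card_eq_spanFinrank (IsNoetherian.noetherian _)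
  choose l hl using hsurj
  refine ⟨l '' s, s.finite_toSet.image _, ?_, ?_⟩
  · have hlm : IsLocalHom ψ := .of_surjective _ fun y => ⟨l y, hl y⟩
    refine le_antisymm (fun x hx => ?_) ?_
    · have h1 : ψ x ∈ Ideal.map ψ (Ideal.span (l '' s)) := by
        rw [Ideal.map_span, Set.image_image]
        simp only [hl, Set.image_id']
        rw [hs]
        exact (mem_maximalIdeal _).mpr fun h =>
          (mem_maximalIdeal _).mp hx ((isUnit_map_iff ψ x).mp h)
      rw [← Ideal.mem_comap, Ideal.comap_map_of_surjective ψ (fun y => ⟨l y, hl y⟩),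
        ← RingHom.ker_eq_comap_bot, hkerψ, ← Ideal.span_union, Set.union_singleton] at h1
      exact h1
    · rw [Ideal.span_le, Set.insert_subset_iff]
      refine ⟨(IsLocalization.AtPrime.to_map_mem_maximal_iff _ P f).mpr hfP, ?_⟩
      rintro _ ⟨y, hy, rfl⟩
      refine (mem_maximalIdeal _).mpr fun h => ?_
      have := (isUnit_map_iff ψ (l y)).mpr h
      rw [hl] at this
      exact (mem_maximalIdeal _).mp (hs ▸ Ideal.subset_span hy) this
  · have hinj : Function.Injective (algebraMap B (Localization.AtPrime P)) :=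
      IsLocalization.injective _ P.primeCompl_le_nonZeroDivisors
    have hdim : ringKrullDim (Localization.AtPrime P ⧸ Ideal.span {algebraMap B _ f}) + 1 =
        ringKrullDim (Localization.AtPrime P) :=
      ringKrullDim_quotient_span_singleton_succ_eq_ringKrullDim_of_mem_nonZeroDivisors
        (mem_nonZeroDivisors_of_ne_zero fun h => hf (hinj (by rw [h, map_zero])))
        ((IsLocalization.AtPrime.to_map_mem_maximal_iff _ P f).mpr hfP)
    rw [← hkerψ, ringKrullDim_eq_of_ringEquiv
      (RingHom.quotientKerEquivOfSurjective (f := ψ) fun y => ⟨l y, hl y⟩),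
      ← IsRegularLocalRing.spanFinrank_maximalIdeal] at hdim
    rw [← hdim, ← hscard]
    have : (l '' (s : Set (Localization.AtPrime P'))).ncard ≤ s.card :=
      (Set.ncard_image_le s.finite_toSet).trans (Set.ncard_coe_finset s).le
    exact_mod_cast Nat.add_le_add_right this 1

section Monomials

variable {B K : Type u} [CommRing B] [CommRing K] [Algebra B K] (T F : Kˣ)

/-- The monomial `T ^ i F ^ (-e)`. -/
def mono (i e : ℤ) : K := ↑(T ^ i * F ^ (-e))

theorem mono_mul (i e i' e' : ℤ) :
    mono T F i e * mono T F i' e' = mono T F (i + i') (e + e') := by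
  unfold mono
  rw [← Units.val_mul, mul_mul_mul_comm, ← zpow_add, ← zpow_add, neg_add]

theorem mono_zero : mono T F 0 0 = 1 := by simp [mono]

theorem mono_pow (i e : ℤ) (n : ℕ) : mono T F i e ^ n = mono T F (n * i) (n * e) := by
  induction n with
  | zero => simp [mono_zero]
  | succ m ih =>
    rw [pow_succ, ih, mono_mul]
    congr 1 <;> push_cast <;> ring

/-- The generators `T ^ i F ^ (-⌊iα/N⌋)`. -/
def gen (N α : ℕ) (i : Fin N) : K := mono T F (i : ℕ) (((i : ℕ) * α / N : ℕ) : ℤ)

variable (N α : ℕ) (u : Bˣ) (f : B)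

theorem mono_period (hF : (F : K) = algebraMap B K f)
    (hT : (T : K) ^ N = algebraMap B K ((u : B) * f ^ α)) :
    mono T F N α = algebraMap B K (u : B) := by
  rw [mono, zpow_natCast, zpow_neg, zpow_natCast, Units.val_mul, Units.val_pow_eq_pow_val, hT,
    map_mul, map_pow, ← hF, ← Units.val_pow_eq_pow_val, mul_assoc, Units.mul_inv, mul_one]

/-- Monomials below the line are in the span of the generators. -/
theorem mono_mem_span (hN : 0 < N) (hF : (F : K) = algebraMap B K f)
    (hT : (T : K) ^ N = algebraMap B K ((u : B) * f ^ α)) (i : ℕ) (e : ℤ)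
    (h : e * N ≤ i * α) : mono T F i e ∈ Submodule.span B (Set.range (gen T F N α)) := by
  induction i using Nat.strong_induction_on generalizing e with
  | _ i ih =>
    rcases lt_or_ge i N with hi | hi
    · obtain ⟨m, hm⟩ : ∃ m : ℕ, ((i * α / N : ℕ) : ℤ) - e = m :=
        ⟨_, (Int.toNat_of_nonneg (sub_nonneg.mpr (by
          rw [Int.natCast_div]
          push_cast
          exact Int.le_ediv_of_mul_le (by exact_mod_cast hN) h))).symm⟩
      have : mono T F i e = f ^ m • gen T F N α ⟨i, hi⟩ := by
        have h1 : mono T F 0 (-(m : ℤ)) = algebraMap B K (f ^ m) := by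
          simp [mono, hF]
        rw [Algebra.smul_def, ← h1, gen, mono_mul]
        congr 1
        · simp
        · show e = -(m : ℤ) + ((i * α / N : ℕ) : ℤ)
          omega
      rw [this]
      exact Submodule.smul_mem _ _ (Submodule.subset_span (Set.mem_range_self _))
    · have h1 : mono T F i e = (u : B) • mono T F (i - N : ℕ) (e - α) := by
        rw [Algebra.smul_def, ← mono_period T F N α u f hF hT, mono_mul]
        congr 1
        · omega
        · omega
      rw [h1]
      refine Submodule.smul_mem _ _ (ih (i - N) (by omega) _ ?_)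
      rw [Nat.cast_sub hi]
      nlinarith

variable (hN : 0 < N) (hF : (F : K) = algebraMap B K f)
  (hT : (T : K) ^ N = algebraMap B K ((u : B) * f ^ α))
  (A : Subalgebra B K) (hA : A = Algebra.adjoin B (Set.range (gen T F N α)))

include hN hF hT hA

/-- The subalgebra is spanned, as a module, by the generators. -/
theorem toSubmodule_eq_span :
    Subalgebra.toSubmodule A = Submodule.span B (Set.range (gen T F N α)) := by
  refine le_antisymm ?_ (Submodule.span_le.mpr fun x hx => hA ▸ Algebra.subset_adjoin hx)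
  have h1 : (1 : K) ∈ Submodule.span B (Set.range (gen T F N α)) := by
    have := mono_mem_span T F N α u f hN hF hT 0 0 (by simp)
    simpa [mono_zero] using this
  have hmul : ∀ x y : K, x ∈ Submodule.span B (Set.range (gen T F N α)) →
      y ∈ Submodule.span B (Set.range (gen T F N α)) →
      x * y ∈ Submodule.span B (Set.range (gen T F N α)) := by
    intro x y hx hy
    have := Submodule.mul_mem_mul hx hy
    rw [Submodule.span_mul_span] at this
    refine Submodule.span_le.mpr ?_ this
    rintro _ ⟨_, ⟨i, rfl⟩, _, ⟨j, rfl⟩, rfl⟩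
    show gen T F N α i * gen T F N α j ∈ _
    rw [gen, gen, mono_mul, ← Nat.cast_add]
    refine mono_mem_span T F N α u f hN hF hT _ _ ?_
    have h2 := Nat.div_mul_le_self (↑i * α) N
    have h3 := Nat.div_mul_le_self (↑j * α) N
    have : ((i : ℕ) * α / N + (j : ℕ) * α / N) * N ≤ ((i : ℕ) + j) * α := by
      rw [add_mul, add_mul]; omega
    exact_mod_cast this
  rw [hA]
  intro x hx
  have : Algebra.adjoin B (Set.range (gen T F N α)) ≤
      (Submodule.span B (Set.range (gen T F N α))).toSubalgebra h1 hmul :=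
    Algebra.adjoin_le fun y hy => Submodule.subset_span hy
  exact this hx

theorem mono_mem (i : ℕ) (e : ℤ) (h : e * N ≤ i * α) : mono T F i e ∈ A := by
  rw [← Subalgebra.mem_toSubmodule, toSubmodule_eq_span T F N α u f hN hF hT A hA]
  exact mono_mem_span T F N α u f hN hF hT i e h

theorem finite_subalgebra : Module.Finite B A := by
  have h : (Subalgebra.toSubmodule A).FG := by
    rw [toSubmodule_eq_span T F N α u f hN hF hT A hA]
    exact Submodule.fg_span (Set.finite_range _)
  exact Module.Finite.iff_fg.mpr h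

theorem free_subalgebra [IsDomain B] (hf : f ≠ 0)
    (hli : LinearIndependent B fun i : Fin N => (T : K) ^ (i : ℕ)) : Module.Free B A := by
  have hgen : ∀ i, gen T F N α i ∈ Subalgebra.toSubmodule A := fun i => by
    rw [toSubmodule_eq_span T F N α u f hN hF hT A hA]
    exact Submodule.subset_span (Set.mem_range_self i)
  have hg : LinearIndependent B (gen T F N α) := by
    rw [Fintype.linearIndependent_iff]
    intro b hb i
    have h := congrArg (· * ((F : K) ^ α)) hb
    simp only [zero_mul, Finset.sum_mul, smul_mul_assoc] at h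
    have he : ∀ j : Fin N, gen T F N α j * (F : K) ^ α =
        f ^ (α - (j : ℕ) * α / N) • (T : K) ^ (j : ℕ) := by
      intro j
      have hle : (j : ℕ) * α / N ≤ α := Nat.div_le_of_le_mul (Nat.mul_le_mul_right _ j.2.le)
      have h1 : ((F : K) ^ α : K) = mono T F 0 (-(α : ℤ)) := by simp [mono]
      have h2 : ((T : K) ^ (j : ℕ) : K) = mono T F (j : ℕ) 0 := by simp [mono]
      have h3 : algebraMap B K (f ^ (α - (j : ℕ) * α / N)) =
          mono T F 0 (-((α - (j : ℕ) * α / N : ℕ) : ℤ)) := by simp [mono, hF]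
      rw [Algebra.smul_def, h1, h2, h3, gen, mono_mul, mono_mul]
      congr 1 <;> omega
    simp only [he, smul_smul] at h
    exact (mul_eq_zero.mp (Fintype.linearIndependent_iff.mp hli _ h i)).resolve_right
      (pow_ne_zero _ hf)
  have hsp : Submodule.span B (Set.range (gen T F N α)) = Subalgebra.toSubmodule A :=
    (toSubmodule_eq_span T F N α u f hN hF hT A hA).symm
  exact Module.Free.of_basis ((Module.Basis.span hg).map (LinearEquiv.ofEq _ _ hsp))

/-- The local rings of the normalised cyclic cover are regular. -/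
theorem isRegularLocalRing_atPrime [IsDomain B] [IsNoetherianRing B]
    (hreg : ∀ (P : Ideal B) [P.IsPrime], IsRegularLocalRing (Localization.AtPrime P))
    (hNu : IsUnit ((N : ℕ) : B)) (hf : f ≠ 0)
    (hD : ∀ (P : Ideal (B ⧸ Ideal.span ({f} : Set B))) [P.IsPrime],
      IsRegularLocalRing (Localization.AtPrime P))
    (hli : LinearIndependent B fun i : Fin N => (T : K) ^ (i : ℕ))
    (Q : Ideal A) [Q.IsPrime] : IsRegularLocalRing (Localization.AtPrime Q) := by
  classical
  have := free_subalgebra T F N α u f hN hF hT A hA hf hli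
  have := finite_subalgebra T F N α u f hN hF hT A hA
  have : IsNoetherianRing A := .of_finite B A
  obtain ⟨P, hP⟩ : ∃ P : Ideal B, P = Q.comap (algebraMap B A) := ⟨_, rfl⟩
  have : P.IsPrime := hP ▸ inferInstance
  have : Q.LiesOver P := ⟨hP⟩
  have hdim : ringKrullDim (Localization.AtPrime P) ≤ ringKrullDim (Localization.AtPrime Q) := by
    rw [IsLocalization.AtPrime.ringKrullDim_eq_height P (Localization.AtPrime P),
      IsLocalization.AtPrime.ringKrullDim_eq_height Q (Localization.AtPrime Q),
      Ideal.height_eq_height_add_of_liesOver_of_hasGoingDown P Q]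
    exact_mod_cast le_self_add
  have := hreg P
  let φ : Localization.AtPrime P →+* Localization.AtPrime Q :=
    Localization.localRingHom P Q (algebraMap B A) hP
  have hφ : ∀ b : B, φ (algebraMap B _ b) = algebraMap A _ (algebraMap B A b) :=
    fun b => Localization.localRingHom_to_map _ _ _ _ b
  have hφm : ∀ x ∈ maximalIdeal (Localization.AtPrime P),
      φ x ∈ maximalIdeal (Localization.AtPrime Q) := fun x hx =>
    (mem_maximalIdeal _).mpr fun h => (mem_maximalIdeal _).mp hx ((isUnit_map_iff φ x).mp h)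
  have hPm : ∀ b ∈ P, algebraMap B (Localization.AtPrime P) b ∈ maximalIdeal _ :=
    fun b hb => (IsLocalization.AtPrime.to_map_mem_maximal_iff _ P b).mpr hb
  have key : ∀ (S : Set (Localization.AtPrime Q)), S.Finite →
      maximalIdeal (Localization.AtPrime Q) = Ideal.span S →
      ((S.ncard : ℕ) : WithBot ℕ∞) ≤ ringKrullDim (Localization.AtPrime P) →
      IsRegularLocalRing (Localization.AtPrime Q) := fun S hS hm hc => by
    refine IsRegularLocalRing.of_spanFinrank_maximalIdeal_le _ ?_
    rw [hm]
    exact le_trans (by exact_mod_cast Submodule.spanFinrank_span_le_ncard_of_finite hS)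
      (hc.trans hdim)
  have hunitB : ∀ b : B, IsUnit b → b ∉ P := fun b hb h =>
    Ideal.IsPrime.ne_top ‹_› (Ideal.eq_top_of_isUnit_mem _ h hb)
  by_cases hfP : f ∈ P
  · obtain ⟨G, hG, hGspan, hGcard⟩ := exists_parameters_containing f hf hD P hfP
    -- Bezout data
    set d := Nat.gcd N α with hd_def
    have hd0 : 0 < d := Nat.gcd_pos_of_pos_left _ hN
    obtain ⟨n, hn⟩ : d ∣ N := Nat.gcd_dvd_left N α
    obtain ⟨a, ha⟩ : d ∣ α := Nat.gcd_dvd_right N α
    have hn0 : 0 < n := by
      rcases Nat.eq_zero_or_pos n with h | h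
      · rw [h, mul_zero] at hn; omega
      · exact h
    have hcop : Int.gcd (a : ℤ) n = 1 := by
      have h1 : Nat.gcd (d * n) (d * a) = d := by rw [← hn, ← ha]
      rw [Nat.gcd_mul_left] at h1
      rw [Int.gcd_natCast_natCast, Nat.gcd_comm]
      exact Nat.eq_of_mul_eq_mul_left hd0 (by rw [h1, mul_one])
    obtain ⟨i₀, q, hiq⟩ : ∃ (i₀ : ℕ) (q : ℤ), (i₀ : ℤ) * a - q * n = 1 := by
      have hb := Int.gcd_eq_gcd_ab (a : ℤ) n
      rw [hcop] at hb
      obtain ⟨x, y, hxy⟩ : ∃ x y : ℤ, (a : ℤ) * x + n * y = 1 := ⟨_, _, hb.symm⟩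
      refine ⟨(x % n).toNat, -(y + (x / n) * a), ?_⟩
      rw [Int.toNat_of_nonneg (Int.emod_nonneg _ (by omega))]
      rw [Int.emod_def]
      linear_combination hxy
    have hNn : (N : ℤ) = d * n := by exact_mod_cast hn
    have hαa : (α : ℤ) = d * a := by exact_mod_cast ha
    let w : A := ⟨mono T F n a, mono_mem T F N α u f hN hF hT A hA n a (by
      rw [hNn, hαa]; exact le_of_eq (by ring))⟩
    let z : A := ⟨mono T F i₀ q, mono_mem T F N α u f hN hF hT A hA i₀ q (by
      rw [hNn, hαa]; nlinarith)⟩
    have hwd : w ^ d = algebraMap B A (u : B) := by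
      apply Subtype.ext
      show (mono T F n a) ^ d = algebraMap B K (u : B)
      rw [mono_pow, ← mono_period T F N α u f hF hT, hNn, hαa]
    have hzn : z ^ n = w ^ i₀ * algebraMap B A f := by
      apply Subtype.ext
      show (mono T F i₀ q) ^ n = mono T F n a ^ i₀ * algebraMap B K f
      have h1 : algebraMap B K f = mono T F 0 (-1) := by simp [mono, hF]
      rw [mono_pow, mono_pow, h1, mono_mul]
      congr 1 <;> first | linear_combination -hiq | linear_combination hiq | ring
    have hwu : IsUnit w :=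
      (isUnit_pow_iff hd0.ne').mp (hwd ▸ (u.isUnit.map (algebraMap B A)))
    let S : Set (Localization.AtPrime Q) := insert (algebraMap A _ z) (φ '' G)
    have hzQ : z ∈ Q := by
      refine Ideal.IsPrime.mem_of_pow_mem ‹_› n ?_
      rw [hzn]
      exact Ideal.mul_mem_left _ _ (by rw [hP] at hfP; exact hfP)
    have hSm : Ideal.span S ≤ maximalIdeal (Localization.AtPrime Q) := by
      rw [Ideal.span_le, Set.insert_subset_iff]
      refine ⟨(IsLocalization.AtPrime.to_map_mem_maximal_iff _ Q z).mpr hzQ, ?_⟩
      rintro _ ⟨g, hg, rfl⟩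
      exact hφm g (hGspan ▸ Ideal.subset_span (Set.mem_insert_of_mem _ hg))
    have hz : algebraMap A _ z ∈ Ideal.span S := Ideal.subset_span (Set.mem_insert _ _)
    have hfS : algebraMap A (Localization.AtPrime Q) (algebraMap B A f) ∈ Ideal.span S := by
      obtain ⟨wu, hwu'⟩ := hwu
      have : algebraMap B A f = ((↑wu⁻¹ : A) ^ i₀ * z ^ (n - 1)) * z := by
        rw [mul_assoc, ← pow_succ, Nat.sub_add_cancel hn0, hzn, ← hwu', ← mul_assoc, ← mul_pow,
          Units.inv_mul, one_pow, one_mul]
      rw [this, map_mul]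
      exact Ideal.mul_mem_left _ _ hz
    have hPS : ∀ b ∈ P, algebraMap A _ (algebraMap B A b) ∈ Ideal.span S := by
      intro b hb
      have h1 : φ (algebraMap B _ b) ∈ Ideal.map φ (Ideal.span (insert (algebraMap B _ f) G)) :=
        Ideal.mem_map_of_mem _ (hGspan ▸ hPm b hb)
      rw [hφ, Ideal.map_span, Set.image_insert_eq, hφ] at h1
      refine Ideal.span_le.mpr (Set.insert_subset_iff.mpr ⟨hfS, ?_⟩) h1
      exact fun g hg => Ideal.subset_span (Set.mem_insert_of_mem _ hg)
    refine key S ((hG.image _).insert _) ?_ (le_trans (by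
      exact_mod_cast (Set.ncard_insert_le _ _).trans (Nat.add_le_add_right (Set.ncard_image_le hG) 1))
      hGcard)
    refine maximalIdeal_eq_of_root P Q hP (Ideal.span S) hSm hPS w (u : B) d (hunitB _ u.isUnit)
      (hunitB _ (isUnit_of_dvd_unit (Nat.cast_dvd_cast ⟨n, hn⟩) hNu))
      (by rw [hwd, sub_self, map_zero]; exact zero_mem _) ?_
    intro x
    have hx : (x : K) ∈ Submodule.span B (Set.range (gen T F N α)) := by
      rw [← toSubmodule_eq_span T F N α u f hN hF hT A hA]
      exact x.2
    obtain ⟨b, hb⟩ := (Submodule.mem_span_range_iff_exists_fun B).mp hx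
    -- each generator is a polynomial in `w` modulo `z`
    have hs : ∀ i : Fin N, ∃ (r : B[X]) (y : A) (gi : A), (gi : K) = gen T F N α i ∧
        gi = aeval w r + z * y := by
      intro i
      set fl : ℕ := (i : ℕ) * α / N with hfl
      have hfln : fl * n ≤ (i : ℕ) * a := by
        have h2 : d * (fl * n) ≤ d * ((i : ℕ) * a) := by
          calc d * (fl * n) = fl * N := by rw [hn]; ring
            _ ≤ (i : ℕ) * α := Nat.div_mul_le_self _ _
            _ = d * ((i : ℕ) * a) := by rw [ha]; ring
        exact Nat.le_of_mul_le_mul_left h2 hd0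
      obtain ⟨k, hk⟩ := Nat.le.dest hfln
      have hk' : (k : ℤ) = (i : ℕ) * a - fl * n := by
        have : ((fl * n + k : ℕ) : ℤ) = ((i : ℕ) * a : ℕ) := by rw [hk]
        push_cast at this
        omega
      obtain ⟨j', m, hjm⟩ : ∃ j' m : ℕ,
          (i₀ : ℤ) * fl - q * (i : ℕ) = (j' : ℤ) - d * m := by
        refine ⟨((i₀ : ℤ) * fl - q * (i : ℕ) +
          d * ((i₀ : ℤ) * fl - q * (i : ℕ)).natAbs).toNat,
          ((i₀ : ℤ) * fl - q * (i : ℕ)).natAbs, ?_⟩
        rw [Int.toNat_of_nonneg]
        · ring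
        · nlinarith [Int.natAbs_eq ((i₀ : ℤ) * fl - q * (i : ℕ)),
            Int.natCast_natAbs ((i₀ : ℤ) * fl - q * (i : ℕ)),
            abs_nonneg ((i₀ : ℤ) * fl - q * (i : ℕ)),
            neg_abs_le ((i₀ : ℤ) * fl - q * (i : ℕ))]
      have hui : algebraMap B K ((↑u⁻¹ : B) ^ m) = mono T F (-(N * m : ℤ)) (-(α * m : ℤ)) := by
        have h1 : algebraMap B K ((u : B) ^ m) * mono T F (-(N * m : ℤ)) (-(α * m : ℤ)) = 1 := by
          rw [map_pow, ← mono_period T F N α u f hF hT, mono_pow, mono_mul, ← mono_zero T F]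
          congr 1 <;> ring
        calc algebraMap B K ((↑u⁻¹ : B) ^ m)
            = algebraMap B K ((↑u⁻¹ : B) ^ m) *
                (algebraMap B K ((u : B) ^ m) * mono T F (-(N * m : ℤ)) (-(α * m : ℤ))) := by
              rw [h1, mul_one]
          _ = _ := by rw [← mul_assoc, ← map_mul, ← mul_pow, Units.inv_mul, one_pow, map_one,
              one_mul]
      have e1 : (algebraMap B A ((↑u⁻¹ : B) ^ m) * w ^ j' * z ^ k : A) = ⟨gen T F N α i,
          by rw [← Subalgebra.mem_toSubmodule, toSubmodule_eq_span T F N α u f hN hF hT A hA]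
             exact Submodule.subset_span (Set.mem_range_self i)⟩ := by
        apply Subtype.ext
        show algebraMap B K ((↑u⁻¹ : B) ^ m) * mono T F n a ^ j' * mono T F i₀ q ^ k = gen T F N α i
        rw [hui, mono_pow, mono_pow, mono_mul, mono_mul, gen, hNn, hαa, ← hfl]
        congr 1
        · linear_combination (-(n : ℤ)) * hjm + (i₀ : ℤ) * hk' + ((i : ℕ) : ℤ) * hiq
        · linear_combination (-(a : ℤ)) * hjm + q * hk' + (fl : ℤ) * hiq
      rcases Nat.eq_zero_or_pos k with rfl | hk0
      · exact ⟨C ((↑u⁻¹ : B) ^ m) * X ^ j', 0, algebraMap B A ((↑u⁻¹ : B) ^ m) * w ^ j' * z ^ 0,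
          congrArg Subtype.val e1, by
          rw [pow_zero, mul_one, mul_zero, add_zero, map_mul, aeval_C, map_pow (aeval w),
            aeval_X]⟩
      · refine ⟨0, algebraMap B A ((↑u⁻¹ : B) ^ m) * w ^ j' * z ^ (k - 1), _, congrArg Subtype.val e1, ?_⟩
        rw [map_zero, zero_add, mul_left_comm, ← pow_succ', Nat.sub_add_cancel hk0]
    choose r y gi hgi hgi' using hs
    refine ⟨1, ∑ i, C (b i) * r i, hunitB _ isUnit_one, ?_⟩
    have hxe : x = ∑ i, b i • gi i := by
      apply Subtype.ext
      simp [hgi, hb]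
    have : algebraMap B A 1 * x - aeval w (∑ i, C (b i) * r i) = (∑ i, b i • y i) * z := by
      rw [map_one, one_mul, map_sum, hxe, Finset.sum_mul, ← Finset.sum_sub_distrib]
      refine Finset.sum_congr rfl fun i _ => ?_
      rw [map_mul, aeval_C, Algebra.smul_def, Algebra.smul_def, hgi' i]
      ring
    rw [this, map_mul]
    exact Ideal.mul_mem_left _ _ hz
  · obtain ⟨s, hscard, hs⟩ : ∃ s : Finset (Localization.AtPrime P),
        s.card = (maximalIdeal (Localization.AtPrime P)).spanFinrank ∧
          Ideal.span (s : Set (Localization.AtPrime P)) = maximalIdeal _ :=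
      Submodule.FG.exists_span_finset_card_eq_spanFinrank (IsNoetherian.noetherian _)
    let t : A := ⟨mono T F (1 : ℕ) 0, mono_mem T F N α u f hN hF hT A hA 1 0 (by simp)⟩
    have hle : Ideal.span (φ '' s) ≤ maximalIdeal (Localization.AtPrime Q) := by
      rw [Ideal.span_le]
      rintro _ ⟨g, hg, rfl⟩
      exact hφm g (hs ▸ Ideal.subset_span hg)
    have hPS : ∀ b ∈ P, algebraMap A (Localization.AtPrime Q) (algebraMap B A b) ∈
        Ideal.span (φ '' s) := fun b hb => by
      rw [← hφ b, ← Ideal.map_span, hs]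
      exact Ideal.mem_map_of_mem _ (hPm b hb)
    refine key (φ '' s) (s.finite_toSet.image φ) ?_ ?_
    · refine maximalIdeal_eq_of_root P Q hP _ hle hPS t ((u : B) * f ^ α) N
        (fun h => ((Ideal.IsPrime.mem_or_mem ‹_› h).elim (hunitB _ u.isUnit)
          fun h => hfP (Ideal.IsPrime.mem_of_pow_mem ‹_› _ h)))
        (hunitB _ hNu) ?_ ?_
      · have : t ^ N = algebraMap B A ((u : B) * f ^ α) := by
          apply Subtype.ext
          show mono T F (1 : ℕ) 0 ^ N = algebraMap B K ((u : B) * f ^ α)
          rw [← hT]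
          simp [mono]
        rw [this, sub_self, map_zero]
        exact zero_mem _
      · intro x
        have hx : (x : K) ∈ Submodule.span B (Set.range (gen T F N α)) := by
          rw [← toSubmodule_eq_span T F N α u f hN hF hT A hA]
          exact x.2
        obtain ⟨b, hb⟩ := (Submodule.mem_span_range_iff_exists_fun B).mp hx
        refine ⟨f ^ α, ∑ i : Fin N, C (b i * f ^ (α - (i : ℕ) * α / N)) * X ^ (i : ℕ),
          fun h => hfP (Ideal.IsPrime.mem_of_pow_mem ‹_› _ h), ?_⟩
        have : algebraMap B A (f ^ α) * x -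
            aeval t (∑ i : Fin N, C (b i * f ^ (α - (i : ℕ) * α / N)) * X ^ (i : ℕ)) = 0 := by
          rw [sub_eq_zero]
          apply Subtype.ext
          simp only [map_sum, map_mul, aeval_C, map_pow, aeval_X, MulMemClass.coe_mul,
            SubmonoidClass.coe_pow, Subalgebra.coe_algebraMap, AddSubmonoidClass.coe_finsetSum]
          show algebraMap B K f ^ α * (x : K) = _
          rw [← hb, Finset.mul_sum]
          refine Finset.sum_congr rfl fun i _ => ?_
          have hle : (i : ℕ) * α / N ≤ α := Nat.div_le_of_le_mul (Nat.mul_le_mul_right _ i.2.le)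
          have h1 : (algebraMap B K f) ^ α = mono T F 0 (-(α : ℤ)) := by simp [mono, hF]
          have h3 : (algebraMap B K f) ^ (α - (i : ℕ) * α / N) =
              mono T F 0 (-((α - (i : ℕ) * α / N : ℕ) : ℤ)) := by simp [mono, hF]
          rw [Algebra.smul_def, h1, h3, gen, mono_pow, mul_left_comm, mul_assoc, mono_mul,
            mono_mul]
          congr 2
          · simp
          · omega
        rw [this, map_zero]
        exact zero_mem _
    · rw [← IsRegularLocalRing.spanFinrank_maximalIdeal, ← hscard]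
      exact Nat.cast_le.mpr ((Set.ncard_image_le s.finite_toSet).trans (Set.ncard_coe_finset s).le)

/-- The cyclic cover subalgebra is integrally closed in `K`. -/
theorem exists_eq_of_isIntegral [IsDomain B] [IsNoetherianRing B]
    (hreg : ∀ (P : Ideal B) [P.IsPrime], IsRegularLocalRing (Localization.AtPrime P))
    (hNu : IsUnit ((N : ℕ) : B)) (hf : f ≠ 0)
    (hD : ∀ (P : Ideal (B ⧸ Ideal.span ({f} : Set B))) [P.IsPrime],
      IsRegularLocalRing (Localization.AtPrime P))
    (hli : LinearIndependent B fun i : Fin N => (T : K) ^ (i : ℕ))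
    (hcl : ∀ x : K, ∃ m : ℕ, x * (F : K) ^ m ∈ A)
    (x : K) (hx : IsIntegral A x) : x ∈ A := by
  obtain ⟨m, hm⟩ := hcl x
  by_contra hxA
  let I : Ideal A :=
    { carrier := {a | (a : K) * x ∈ A}
      add_mem' := fun {p q} hp hq => by
        show ((p + q : A) : K) * x ∈ A
        simpa [add_mul] using A.add_mem hp hq
      zero_mem' := by simpa using A.zero_mem
      smul_mem' := fun c p hp => by
        show ((c * p : A) : K) * x ∈ A
        simpa [mul_assoc] using A.mul_mem c.2 hp }
  have hI : I ≠ ⊤ := fun h => hxA (by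
    have : (1 : A) ∈ I := h ▸ Submodule.mem_top
    simpa using (show ((1 : A) : K) * x ∈ A from this))
  obtain ⟨Q, hQ, hIQ⟩ := Ideal.exists_le_maximal I hI
  have := isRegularLocalRing_atPrime T F N α u f hN hF hT A hA hreg hNu hf hD hli Q
  have := H05EGA4.isIntegrallyClosed_of_isRegularLocalRing (Localization.AtPrime Q)
  have := H4Depth.isDomain_of_isRegularLocalRing (Localization.AtPrime Q)
  have hF0 : algebraMap A (Localization.AtPrime Q) (algebraMap B A f ^ m) ≠ 0 := by
    rw [Ne, IsLocalization.map_eq_zero_iff Q.primeCompl]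
    rintro ⟨⟨c, hc⟩, h⟩
    have h' : (c : K) * algebraMap B K f ^ m = 0 := by
      simpa using congrArg (Subtype.val : A → K) h
    rw [← hF, ← Units.val_pow_eq_pow_val, Units.mul_left_eq_zero] at h'
    exact hc (by rw [show c = 0 from Subtype.ext (by simpa using h')]; exact zero_mem _)
  -- transport `x` to the fraction field of the local ring
  let φ : A →+* FractionRing (Localization.AtPrime Q) :=
    (algebraMap _ _).comp (algebraMap A (Localization.AtPrime Q))
  obtain ⟨a, ha⟩ : ∃ a : A, (a : K) = x * algebraMap B K f ^ m := ⟨⟨_, hF ▸ hm⟩, rfl⟩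
  obtain ⟨p, hpm, hpx⟩ := hx
  have hinj := IsFractionRing.injective (Localization.AtPrime Q)
    (FractionRing (Localization.AtPrime Q))
  set y : FractionRing (Localization.AtPrime Q) := φ a / φ (algebraMap B A f ^ m) with hy
  have hf0 : φ (algebraMap B A f ^ m) ≠ 0 := fun h => hF0 (hinj (h.trans (map_zero _).symm))
  have hsc : (p.scaleRoots (algebraMap B A f ^ m)).eval a = 0 := by
    have h := Polynomial.scaleRoots_eval₂_eq_zero (s := algebraMap B A f ^ m) (algebraMap A K) hpx
    have : algebraMap A K (algebraMap B A f ^ m) * x = algebraMap A K a := by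
      show ((algebraMap B A f ^ m : A) : K) * x = a
      rw [ha, SubmonoidClass.coe_pow, Subalgebra.coe_algebraMap, mul_comm]
    rw [this, Polynomial.eval₂_at_apply] at h
    exact Subtype.ext h
  have hpy : Polynomial.eval₂ φ y p = 0 := by
    have h1 : Polynomial.eval₂ φ (φ (algebraMap B A f ^ m) * y)
        (p.scaleRoots (algebraMap B A f ^ m)) =
        φ (algebraMap B A f ^ m) ^ p.natDegree * Polynomial.eval₂ φ y p :=
      Polynomial.scaleRoots_eval₂_mul _ _ _
    rw [hy, mul_div_cancel₀ _ hf0, Polynomial.eval₂_at_apply, hsc, map_zero] at h1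
    exact (mul_eq_zero.mp h1.symm).resolve_left (pow_ne_zero _ hf0)
  have hyint : IsIntegral (Localization.AtPrime Q) y :=
    ⟨p.map (algebraMap A (Localization.AtPrime Q)), hpm.map _, by rwa [Polynomial.eval₂_map]⟩
  obtain ⟨l, hl⟩ := IsIntegrallyClosed.isIntegral_iff.mp hyint
  obtain ⟨c, s, rfl⟩ := IsLocalization.exists_mk'_eq Q.primeCompl l
  have h2 : algebraMap A (Localization.AtPrime Q) a * algebraMap A _ (s : A) =
      algebraMap A _ c * algebraMap A _ (algebraMap B A f ^ m) := by
    apply hinj
    have h3 := congrArg (· * φ (s : A)) hl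
    rw [show φ (s : A) = algebraMap (Localization.AtPrime Q) _ (algebraMap A _ (s : A)) from rfl,
      ← map_mul, IsLocalization.mk'_spec, hy, div_mul_eq_mul_div, eq_div_iff hf0] at h3
    rw [map_mul, map_mul]
    exact h3.symm
  rw [← map_mul, ← map_mul, IsLocalization.eq_iff_exists Q.primeCompl] at h2
  obtain ⟨⟨e, he⟩, h4⟩ := h2
  have h5 : ((e * (s : A) : A) : K) * x = ((e * c : A) : K) := by
    have h6 := congrArg (Subtype.val : A → K) h4
    simp only [MulMemClass.coe_mul, SubmonoidClass.coe_pow, Subalgebra.coe_algebraMap, ha,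
      ← hF] at h6
    refine (F ^ m).mul_left_inj.mp ?_
    push_cast
    linear_combination h6
  have h7 : e * (s : A) ∈ I := by
    show ((e * (s : A) : A) : K) * x ∈ A
    rw [h5]
    exact (e * c).2
  exact (Ideal.IsPrime.mem_or_mem inferInstance (hIQ h7)).elim he s.2

end Monomials

end Groth.Agent.H29Vanish
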